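import Groth.Agent.DimTheory.Algebra
import Mathlib

/-!
# Generic linear forms and algebraic independence
-/

set_option autoImplicit false

universe u

namespace Groth.Agent.AlgIndepGen

/-- Two elements cutting out a codimension two component are algebraically independent. -/
theorem algebraicIndependent_pair {k A : Type u} [Field k] [CommRing A] [IsDomain A] [Algebra k A]
    [Algebra.FiniteType k A] (a b : A)
    (p : Ideal A) (hp : p ∈ (Ideal.span {a, b}).minimalPrimes)
    (hdim : ringKrullDim (A ⧸ p) + 2 = ringKrullDim A) :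
    AlgebraicIndependent k ![a, b] := by
  haveI := Algebra.FiniteType.isNoetherianRing k A
  haveI hpp : p.IsPrime := hp.1.1
  have ha : a ∈ p := hp.1.2 (Ideal.subset_span (by simp))
  have hb : b ∈ p := hp.1.2 (Ideal.subset_span (by simp))
  have hht : p.height = 2 := by
    have h := DimTheory.height_add_ringKrullDim_quotient' k p
    obtain ⟨N, hN⟩ := ENat.ne_top_iff_exists.1 (Ideal.height_ne_top_of_isPrime (I := p))
    rw [← hdim, ← hN] at h
    rw [← hN]
    obtain ⟨Q, hQ⟩ := DimTheory.exists_ringKrullDim_eq k (A ⧸ p)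
    rw [hQ] at h
    norm_cast at h
    have : N = 2 := by
      have h2 : Q + N = Q + 2 := by exact_mod_cast h
      omega
    rw [this]
    rfl
  -- no principal ideal has `p` as a minimal prime
  have hnm : ∀ (t : A), t ∈ p → ∃ q : Ideal A, q.IsPrime ∧ q ≤ p ∧ t ∈ q ∧ q ≠ p := by
    intro t ht
    by_contra hc
    push Not at hc
    have hmin : p ∈ (Ideal.span {t}).minimalPrimes := by
      refine ⟨⟨hpp, (Ideal.span_singleton_le_iff_mem _).2 ht⟩, fun q hq hqp => (hc q hq.1 hqp ?_).ge⟩
      exact hq.2 (Ideal.subset_span rfl)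
    have h1 : p.height ≤ 1 := Ideal.height_le_one_of_isPrincipal_of_mem_minimalPrimes (Ideal.span {t}) p hmin
    rw [hht] at h1
    exact absurd h1 (by norm_num)
  have key : ∀ q : Ideal A, q.IsPrime → q ≤ p → a ∈ q → b ∈ q → q = p := fun q hq hqp haq hbq =>
    le_antisymm hqp (hp.2 ⟨hq, Ideal.span_le.2 (by rintro x (rfl | rfl) <;> assumption)⟩ hqp)
  have ha0 : a ≠ 0 := by
    rintro rfl
    obtain ⟨q, hq, hqp, hbq, hne⟩ := hnm b hb
    exact hne (key q hq hqp (zero_mem _) hbq)
  let Φ : MvPolynomial (Fin 2) k →ₐ[k] Polynomial (Polynomial k) :=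
    MvPolynomial.aeval ![Polynomial.X, Polynomial.C Polynomial.X]
  let Ψ : Polynomial (Polynomial k) →+* MvPolynomial (Fin 2) k :=
    Polynomial.eval₂RingHom (Polynomial.aeval (MvPolynomial.X 1)).toRingHom (MvPolynomial.X 0)
  have hΦ : Function.Injective Φ := by
    have h : Ψ.comp Φ.toRingHom = RingHom.id _ := by
      refine MvPolynomial.ringHom_ext (fun r => ?_) (fun i => ?_)
      · simp [Φ, Ψ]
      · fin_cases i <;> simp [Φ, Ψ]
    exact Function.LeftInverse.injective (g := Ψ) fun x => RingHom.congr_fun h x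
  rw [algebraicIndependent_iff]
  intro P hP
  by_contra hP0
  obtain ⟨P', hP', hnd⟩ := (Φ P).exists_eq_pow_rootMultiplicity_mul_and_not_dvd
    (fun h => hP0 (hΦ (h.trans (map_zero Φ).symm))) 0
  rw [map_zero, sub_zero] at hP' hnd
  let E : Polynomial (Polynomial k) →+* A := Polynomial.eval₂RingHom (Polynomial.aeval b).toRingHom a
  have hE : E (Φ P) = 0 := by
    have h : E.comp Φ.toRingHom = (MvPolynomial.aeval ![a, b]).toRingHom := by
      refine MvPolynomial.ringHom_ext (fun r => ?_) (fun i => ?_)
      · simp [Φ, E]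
      · fin_cases i <;> simp [Φ, E]
    exact (RingHom.congr_fun h P).trans hP
  rw [hP', map_mul, map_pow, show E Polynomial.X = a by simp [E]] at hE
  have hE' : E P' = 0 := (mul_eq_zero.1 hE).resolve_left (pow_ne_zero _ ha0)
  obtain ⟨w', hw', hnd'⟩ := (P'.coeff 0).exists_eq_pow_rootMultiplicity_mul_and_not_dvd
    (fun h => hnd (Polynomial.X_dvd_iff.2 h)) 0
  rw [map_zero, sub_zero] at hw' hnd'
  obtain ⟨q, hq, hqp, haq, hne⟩ := hnm a ha
  refine hne (key q hq hqp haq ?_)
  have h0 : Polynomial.aeval b (P'.coeff 0) ∈ q := by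
    obtain ⟨R, hR⟩ : Polynomial.X ∣ P' - Polynomial.C (P'.coeff 0) := Polynomial.X_dvd_iff.2 (by simp)
    have h2 := congrArg E hR
    rw [map_sub, map_mul, hE', zero_sub, show E Polynomial.X = a by simp [E],
      show E (Polynomial.C (P'.coeff 0)) = Polynomial.aeval b (P'.coeff 0) by simp [E]] at h2
    rw [← neg_neg (Polynomial.aeval b (P'.coeff 0)), h2]
    exact q.neg_mem (q.mul_mem_right _ haq)
  rw [hw', map_mul, map_pow, Polynomial.aeval_X] at h0
  refine hq.mem_of_pow_mem _ ((hq.mem_or_mem h0).resolve_right fun h => ?_)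
  obtain ⟨R, hR⟩ : Polynomial.X ∣ w' - Polynomial.C (w'.coeff 0) := Polynomial.X_dvd_iff.2 (by simp)
  have h2 := congrArg (Polynomial.aeval b) hR
  rw [map_sub, map_mul, Polynomial.aeval_X, Polynomial.aeval_C] at h2
  have hc : algebraMap k A (w'.coeff 0) ∈ p := by
    rw [show algebraMap k A (w'.coeff 0) = Polynomial.aeval b w' - b * Polynomial.aeval b R by rw [← h2]; ring]
    exact sub_mem (hqp h) (p.mul_mem_right _ hb)
  have hc0 : w'.coeff 0 ≠ 0 := fun h => hnd' (Polynomial.X_dvd_iff.2 h)
  exact hpp.ne_top (Ideal.eq_top_of_isUnit_mem _ hc ((Ne.isUnit hc0).map _))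

/-- The generic linear form in `g` is transcendental over `k(x, a)` when `a, b = g i₁` are independent. -/
theorem algebraicIndependent_linear {k F : Type u} [Field k] [Field F] [Algebra k F] {σ : Type} [Fintype σ]
    (g : σ → F) (i₁ : σ) (a : F) (hab : AlgebraicIndependent k ![a, g i₁]) :
    AlgebraicIndependent k (Sum.elim (fun i : σ => (MvPolynomial.X i : MvPolynomial σ F))
      ![∑ i, MvPolynomial.C (g i) * MvPolynomial.X i, MvPolynomial.C a]) := by
  classical
  let b := g i₁
  have hne : a ≠ b := fun h => absurd (hab.injective (show ![a, b] 0 = ![a, b] 1 by simpa using h)) (by decide)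
  -- field maps fixing `a` and moving `b`
  let Ω := AlgebraicClosure F
  have hemb : ∀ n : ℕ, ∃ φ : F →ₐ[k] Ω, φ a = algebraMap F Ω a ∧ φ b = algebraMap F Ω b ^ (n + 1) := by
    intro n
    have hs : AlgebraicIndepOn k id ({a, b} : Set F) := by
      have := hab.to_subtype_range
      rwa [Matrix.range_cons_cons_empty] at this
    obtain ⟨t, hst, ht⟩ := exists_isTranscendenceBasis_superset hs
    let f : t → Polynomial k := fun v => if (v : F) = b then Polynomial.X ^ (n + 1) else Polynomial.X
    have hf : ∀ v, Transcendental k (f v) := fun v => by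
      simp only [f]
      split_ifs
      · exact (Polynomial.transcendental_X k).pow (Nat.succ_pos n)
      · exact Polynomial.transcendental_X k
    let jΩ : F →ₐ[k] Ω := IsScalarTower.toAlgHom k F Ω
    have hj : AlgebraicIndependent k (jΩ ∘ (Subtype.val : t → F)) := ht.1.map' jΩ.toRingHom.injective
    have h' := hj.polynomial_aeval_of_transcendental hf
    let ψ : ↥(IntermediateField.adjoin k (Set.range (Subtype.val : t → F))) →ₐ[k] Ω :=
      (IsFractionRing.liftAlgHom (K := FractionRing (MvPolynomial t k))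
        (algebraicIndependent_iff_injective_aeval.2 h')).comp ht.1.aevalEquivField.symm.toAlgHom
    have hψ : ∀ v : t, ψ ⟨v.1, IntermediateField.subset_adjoin k _ ⟨v, rfl⟩⟩ = Polynomial.aeval (jΩ v.1) (f v) := by
      intro v
      have e : ht.1.aevalEquivField.symm ⟨v.1, IntermediateField.subset_adjoin k _ ⟨v, rfl⟩⟩
          = algebraMap _ _ (MvPolynomial.X v : MvPolynomial t k) := by
        rw [AlgEquiv.symm_apply_eq]
        apply Subtype.ext
        rw [AlgebraicIndependent.aevalEquivField_algebraMap_apply_coe, MvPolynomial.aeval_X]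
      show IsFractionRing.lift (K := FractionRing (MvPolynomial t k))
        (algebraicIndependent_iff_injective_aeval.2 h') (ht.1.aevalEquivField.symm _) = _
      rw [e, IsFractionRing.lift_algebraMap]
      simp
    haveI : Algebra.IsAlgebraic ↥(IntermediateField.adjoin k (Set.range (Subtype.val : t → F))) F :=
      ht.isAlgebraic_field
    obtain ⟨φ, hφ'⟩ := IntermediateField.exists_algHom_of_splits' (E := F) ψ fun s =>
      ⟨Algebra.IsIntegral.isIntegral s, IsAlgClosed.splits _⟩
    have hφ : ∀ v : t, φ v.1 = Polynomial.aeval (jΩ v.1) (f v) := fun v => by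
      rw [← hψ v, ← hφ']
      rfl
    refine ⟨φ, ?_, ?_⟩
    · show φ a = _
      rw [hφ ⟨a, hst (by simp)⟩]
      simp [f, hne, jΩ]
    · show φ b = _
      rw [hφ ⟨b, hst (by simp)⟩]
      simp [f, jΩ]
  choose φ hφa hφb using hemb
  have hbΩ : Transcendental k (algebraMap F Ω b) :=
    (transcendental_algebraMap_iff (algebraMap F Ω).injective).2 (hab.transcendental 1)
  have hinjn : Function.Injective fun n => φ n b := by
    intro m n h
    simp only [hφb] at h
    by_contra hmn
    refine hbΩ ⟨Polynomial.X ^ (m + 1) - Polynomial.X ^ (n + 1), sub_ne_zero.2 fun e => hmn ?_, by simp [h]⟩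
    have := congrArg Polynomial.natDegree e
    simpa using this
  -- the universal target
  let Φ0 : MvPolynomial (σ ⊕ Fin 2) k →ₐ[k] Polynomial (MvPolynomial σ (Polynomial k)) :=
    MvPolynomial.aeval (Sum.elim (fun i => Polynomial.C (MvPolynomial.X i))
      ![Polynomial.X, Polynomial.C (MvPolynomial.C Polynomial.X)])
  let Ψ0 : Polynomial (MvPolynomial σ (Polynomial k)) →+* MvPolynomial (σ ⊕ Fin 2) k :=
    Polynomial.eval₂RingHom (MvPolynomial.eval₂Hom (Polynomial.aeval (MvPolynomial.X (Sum.inr 1))).toRingHom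
      (fun i => MvPolynomial.X (Sum.inl i))) (MvPolynomial.X (Sum.inr 0))
  have hΦ0 : Function.Injective Φ0 := by
    have h : Ψ0.comp Φ0.toRingHom = RingHom.id _ := by
      refine MvPolynomial.ringHom_ext (fun r => ?_) (fun i => ?_)
      · simp [Φ0, Ψ0]
      · rcases i with i | i
        · simp [Φ0, Ψ0]
        · fin_cases i <;> simp [Φ0, Ψ0]
    exact Function.LeftInverse.injective (g := Ψ0) fun x => RingHom.congr_fun h x
  have haΩ : Function.Injective (Polynomial.aeval (R := k) (algebraMap F Ω a)) :=
    transcendental_iff_injective.1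
      ((transcendental_algebraMap_iff (algebraMap F Ω).injective).2 (hab.transcendental 0))
  let G : Polynomial (MvPolynomial σ (Polynomial k)) →+* Polynomial (MvPolynomial σ Ω) :=
    Polynomial.mapRingHom (MvPolynomial.map (Polynomial.aeval (R := k) (algebraMap F Ω a)).toRingHom)
  have hG : Function.Injective G := Polynomial.map_injective _ (MvPolynomial.map_injective _ haΩ)
  rw [algebraicIndependent_iff]
  intro Q hQ
  apply hΦ0
  apply hG
  rw [map_zero, map_zero]
  let ℓ : ℕ → MvPolynomial σ Ω := fun n => ∑ i, MvPolynomial.C (φ n (g i)) * MvPolynomial.X i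
  refine Polynomial.eq_zero_of_infinite_isRoot _ (Set.Infinite.mono (s := Set.range ℓ) ?_ ?_)
  · rintro _ ⟨n, rfl⟩
    show Polynomial.eval (ℓ n) (G (Φ0 Q)) = 0
    have h : ((Polynomial.evalRingHom (ℓ n)).comp G).comp Φ0.toRingHom =
        (MvPolynomial.map (φ n).toRingHom).comp (MvPolynomial.aeval (R := k)
          (Sum.elim (fun i : σ => (MvPolynomial.X i : MvPolynomial σ F))
            ![∑ i, MvPolynomial.C (g i) * MvPolynomial.X i, MvPolynomial.C a])).toRingHom := by
      refine MvPolynomial.ringHom_ext (fun r => ?_) (fun i => ?_)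
      · simp [Φ0, G, MvPolynomial.algebraMap_apply]
      · rcases i with i | i
        · simp [Φ0, G]
        · fin_cases i <;> simp [Φ0, G, ℓ, hφa]
    exact (RingHom.congr_fun h Q).trans ((congrArg (MvPolynomial.map (φ n).toRingHom) hQ).trans (map_zero _))
  · refine Set.infinite_range_of_injective fun m n h => hinjn ?_
    have := congrArg (MvPolynomial.coeff (Finsupp.single i₁ 1)) h
    simpa [ℓ, MvPolynomial.coeff_sum, MvPolynomial.coeff_X', Finsupp.single_left_inj] using this

end Groth.Agent.AlgIndepGen
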